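import Groth.Agent.EGA41Lib.ExalBasic

/-! Sections of extensions with the base in an arbitrary universe, and surjectivity onto trivial classes. -/

set_option autoImplicit false
set_option linter.style.haveILetI false

universe u v w

open Exal
open Groth.Agent.EGA41Lib.ExalX (sndS sndS_spec sndS_eq proj_add_incl sndS_add sndS_mul sndS_section_mul sndS_incl mul_eq proj_incl)

namespace Groth.Agent.ExalSurj

attribute [local instance] Exal.opModule Exal.isCentralScalar_opModule

section relative

variable {A : Type u} {B : Type w} {C L : Type v} [CommRing A] [CommRing B] [CommRing C] [Algebra A B] [Algebra B C]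
  [Algebra A C] [IsScalarTower A B C] [AddCommGroup L] [Module C L]
variable (X : Ext B C L)

/-- An `A`-algebra section of an extension. -/
structure Sect (A : Type u) [CommRing A] [Algebra A B] [Algebra A C] [IsScalarTower A B C] (X : Ext B C L) where
  /-- The section. -/
  toAlgHom : C →ₐ[A] X.RestrictCarrier A
  proj_apply : ∀ c, X.proj (toAlgHom c) = c

theorem nonempty_sect (h : X.IsTrivialOver A) : Nonempty (Sect A X) :=
  let ⟨s, hs⟩ := h
  ⟨⟨{ toFun := fun c => (s c : X.E)
      map_one' := map_one s
      map_mul' := map_mul s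
      map_zero' := map_zero s
      map_add' := map_add s
      commutes' := fun a => s.commutes a }, hs⟩⟩

variable {X}

/-- The ring map underlying a section. -/
def Sect.hom (σ : Sect A X) : C →+* X.E := σ.toAlgHom.toRingHom

theorem Sect.hom_apply (σ : Sect A X) (c : C) : σ.hom c = σ.toAlgHom c := rfl

theorem Sect.hs (σ : Sect A X) (c : C) : X.proj (σ.hom c) = c := σ.proj_apply c

theorem Sect.hom_algebraMap (σ : Sect A X) (a : A) :
    σ.hom (algebraMap A C a) = algebraMap B X.E (algebraMap A B a) := σ.toAlgHom.commutes a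

theorem Sect.isTrivialOver (σ : Sect A X) : X.IsTrivialOver A :=
  ⟨{ toFun := fun c => (σ.hom c : X.RestrictCarrier A)
     map_one' := map_one σ.hom
     map_mul' := map_mul σ.hom
     map_zero' := map_zero σ.hom
     map_add' := map_add σ.hom
     commutes' := fun a => σ.hom_algebraMap a }, σ.proj_apply⟩

variable [Module A L] [Module B L] [IsScalarTower A C L] [IsScalarTower B C L]

/-- The derivation of an extension with a section. -/
noncomputable def Sect.der (σ : Sect A X) : Derivation A B L :=
  Derivation.mk'
    { toFun := fun b => sndS X σ.hom σ.hs (algebraMap B X.E b)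
      map_add' := fun x y => by rw [map_add, sndS_add]
      map_smul' := fun a b => by
        rw [RingHom.id_apply, Algebra.smul_def, map_mul, ← σ.hom_algebraMap, sndS_section_mul,
          IsScalarTower.algebraMap_smul] }
    fun x y => by
      show sndS X σ.hom σ.hs (algebraMap B X.E (x * y)) =
        x • sndS X σ.hom σ.hs (algebraMap B X.E y) + y • sndS X σ.hom σ.hs (algebraMap B X.E x)
      rw [map_mul, sndS_mul, AlgHom.commutes, AlgHom.commutes, IsScalarTower.algebraMap_smul,
        IsScalarTower.algebraMap_smul]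

theorem Sect.der_apply (σ : Sect A X) (b : B) : σ.der b = sndS X σ.hom σ.hs (algebraMap B X.E b) := rfl

theorem Sect.algebraMap_eq (σ : Sect A X) (b : B) :
    algebraMap B X.E b = σ.hom (algebraMap B C b) + X.incl (σ.der b) := by
  have := sndS_spec X σ.hom σ.hs (algebraMap B X.E b)
  rw [X.proj.commutes] at this
  exact this.symm

/-- Extensions with sections having the same derivation are equivalent. -/
theorem nonempty_equiv_of_der_eq {Y : Ext B C L} (σ : Sect A X) (τ : Sect A Y) (h : ∀ b, σ.der b = τ.der b) :
    Nonempty (X.Equiv Y) := by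
  let φ : X.E → Y.E := fun x => τ.hom (X.proj x) + Y.incl (sndS X σ.hom σ.hs x)
  let ψ : Y.E → X.E := fun y => σ.hom (Y.proj y) + X.incl (sndS Y τ.hom τ.hs y)
  have h1 : ∀ x, ψ (φ x) = x := fun x => by
    show σ.hom (Y.proj (φ x)) + X.incl (sndS Y τ.hom τ.hs (φ x)) = x
    rw [sndS_eq Y τ.hom τ.hs (rfl : φ x = _), proj_add_incl Y τ.hom τ.hs, sndS_spec]
  have h2 : ∀ y, φ (ψ y) = y := fun y => by
    show τ.hom (X.proj (ψ y)) + Y.incl (sndS X σ.hom σ.hs (ψ y)) = y
    rw [sndS_eq X σ.hom σ.hs (rfl : ψ y = _), proj_add_incl X σ.hom σ.hs, sndS_spec]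
  let Φ : X.E ≃ₐ[B] Y.E :=
    { toFun := φ
      invFun := ψ
      left_inv := h1
      right_inv := h2
      map_mul' := fun x y => by
        show τ.hom (X.proj (x * y)) + Y.incl _ = (τ.hom (X.proj x) + Y.incl _) * (τ.hom (X.proj y) + Y.incl _)
        rw [mul_eq Y τ.hom τ.hs, map_mul, sndS_mul]
      map_add' := fun x y => by
        show τ.hom (X.proj (x + y)) + Y.incl _ = (τ.hom (X.proj x) + Y.incl _) + (τ.hom (X.proj y) + Y.incl _)
        rw [map_add, sndS_add, map_add, map_add]
        abel
      commutes' := fun b => by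
        show τ.hom (X.proj (algebraMap B X.E b)) + Y.incl (σ.der b) = algebraMap B Y.E b
        rw [X.proj.commutes, h, τ.algebraMap_eq b] }
  refine ⟨⟨Φ, fun x => proj_add_incl Y τ.hom τ.hs _ _, fun z => ?_⟩⟩
  show τ.hom (X.proj (X.incl z)) + Y.incl (sndS X σ.hom σ.hs (X.incl z)) = Y.incl z
  rw [proj_incl, sndS_incl, map_zero, zero_add]

end relative

section surj

variable {Λ : Type u} {A : Type w} {B C L : Type v} [CommRing Λ] [CommRing A] [CommRing B] [CommRing C]
  [Algebra Λ A] [Algebra A C] [Algebra Λ C] [IsScalarTower Λ A C]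
  [AddCommGroup L] [Module C L] [Module A L] [IsScalarTower A C L] [Module Λ L] [IsScalarTower Λ A L]

/-- The square-zero extension of `C` by `L` with `A` acting through a derivation. -/
@[nolint unusedArguments]
def DCar (C : Type v) [CommRing C] [Module C L] (_d : Derivation Λ A L) : Type v := TrivSqZeroExt C L

noncomputable instance (d : Derivation Λ A L) : CommRing (DCar C d) := inferInstanceAs (CommRing (TrivSqZeroExt C L))

/-- The structure map. -/
noncomputable def dHom (d : Derivation Λ A L) : A →+* TrivSqZeroExt C L where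
  toFun x := TrivSqZeroExt.inl (algebraMap A C x) + TrivSqZeroExt.inr (d x)
  map_one' := by
    rw [map_one, Derivation.map_one_eq_zero, TrivSqZeroExt.inr_zero, add_zero, TrivSqZeroExt.inl_one]
  map_mul' x y := by
    apply TrivSqZeroExt.ext
    · simp
    · simp only [TrivSqZeroExt.snd_add, TrivSqZeroExt.snd_inl, TrivSqZeroExt.snd_inr, zero_add,
        TrivSqZeroExt.snd_mul, TrivSqZeroExt.fst_add, TrivSqZeroExt.fst_inl, TrivSqZeroExt.fst_inr, add_zero,
        Derivation.leibniz, op_smul_eq_smul]
      rw [IsScalarTower.algebraMap_smul, IsScalarTower.algebraMap_smul, add_comm]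
  map_zero' := by
    rw [map_zero, map_zero, TrivSqZeroExt.inl_zero, TrivSqZeroExt.inr_zero, add_zero]
  map_add' x y := by
    rw [map_add, map_add, TrivSqZeroExt.inl_add, TrivSqZeroExt.inr_add]
    abel

noncomputable instance (d : Derivation Λ A L) : Algebra A (DCar C d) :=
  (dHom (C := C) d : A →+* DCar C d).toAlgebra

/-- The extension of a derivation. -/
noncomputable def dExt (d : Derivation Λ A L) : Ext A C L where
  E := DCar C d
  proj :=
    { toFun := fun x => TrivSqZeroExt.fst x
      map_one' := TrivSqZeroExt.fst_one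
      map_mul' := TrivSqZeroExt.fst_mul
      map_zero' := TrivSqZeroExt.fst_zero
      map_add' := TrivSqZeroExt.fst_add
      commutes' := fun x => by
        change TrivSqZeroExt.fst (TrivSqZeroExt.inl (algebraMap A C x) + TrivSqZeroExt.inr (d x)) = _
        rw [TrivSqZeroExt.fst_add, TrivSqZeroExt.fst_inl, TrivSqZeroExt.fst_inr, add_zero] }
  incl := (TrivSqZeroExt.inrHom C L).toAddMonoidHom
  isExtension :=
    { proj_surjective := fun c => ⟨TrivSqZeroExt.inl c, rfl⟩
      incl_injective := TrivSqZeroExt.inr_injective
      exact := fun x => by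
        constructor
        · intro hx
          exact ⟨TrivSqZeroExt.snd x, TrivSqZeroExt.ext hx.symm rfl⟩
        · rintro ⟨z, rfl⟩
          rfl
      mul_incl := fun x z => by
        refine TrivSqZeroExt.ext ?_ ?_
        · change TrivSqZeroExt.fst x * 0 = 0
          exact mul_zero _
        · change TrivSqZeroExt.fst x • z + MulOpposite.op (0 : C) • TrivSqZeroExt.snd x = TrivSqZeroExt.fst x • z
          rw [MulOpposite.op_zero, zero_smul, add_zero] }

/-- The tautological section. -/
noncomputable def dSect (d : Derivation Λ A L) : Sect Λ (dExt (C := C) d) where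
  toAlgHom :=
    { toFun := fun c => (TrivSqZeroExt.inl c : TrivSqZeroExt C L)
      map_one' := TrivSqZeroExt.inl_one L
      map_mul' := fun x y => TrivSqZeroExt.inl_mul L x y
      map_zero' := TrivSqZeroExt.inl_zero L
      map_add' := TrivSqZeroExt.inl_add L
      commutes' := fun a => by
        show (TrivSqZeroExt.inl (algebraMap Λ C a) : TrivSqZeroExt C L) =
          TrivSqZeroExt.inl (algebraMap A C (algebraMap Λ A a)) + TrivSqZeroExt.inr (d (algebraMap Λ A a))
        rw [d.map_algebraMap, TrivSqZeroExt.inr_zero, add_zero, ← IsScalarTower.algebraMap_apply] }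
  proj_apply := fun _ => rfl

variable [Algebra A B] [Algebra B C] [Algebra Λ B] [IsScalarTower Λ A B] [IsScalarTower A B C] [IsScalarTower Λ B C]
  [Module B L] [IsScalarTower B C L] [IsScalarTower A B L]

/-- A section pulls back. -/
noncomputable def pullSect {X : Ext A C L} (σ : Sect Λ X) : Sect Λ (X.pullback B) where
  toAlgHom :=
    { toFun := fun b => (⟨(σ.hom (algebraMap B C b), b), σ.hs (algebraMap B C b)⟩ : X.fiberProd B)
      map_one' := Subtype.ext (Prod.ext (by show σ.hom (algebraMap B C 1) = (1 : X.E); rw [map_one, map_one]) rfl)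
      map_mul' := fun x y => Subtype.ext (Prod.ext (by
        show σ.hom (algebraMap B C (x * y)) = σ.hom (algebraMap B C x) * σ.hom (algebraMap B C y)
        rw [map_mul, map_mul]) rfl)
      map_zero' := Subtype.ext (Prod.ext (by show σ.hom (algebraMap B C 0) = (0 : X.E); rw [map_zero, map_zero]) rfl)
      map_add' := fun x y => Subtype.ext (Prod.ext (by
        show σ.hom (algebraMap B C (x + y)) = σ.hom (algebraMap B C x) + σ.hom (algebraMap B C y)
        rw [map_add, map_add]) rfl)
      commutes' := fun a => Subtype.ext (Prod.ext (by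
        show σ.hom (algebraMap B C (algebraMap Λ B a)) = algebraMap A X.E (algebraMap Λ A a)
        rw [← IsScalarTower.algebraMap_apply, σ.hom_algebraMap])
        (IsScalarTower.algebraMap_apply Λ A B a)) }
  proj_apply := fun _ => rfl

theorem surjective_pullback (Y : Ext A B L) (hY : Y.IsTrivialOver Λ) [IsScalarTower Λ B L] [IsScalarTower Λ C L] :
    ∃ X : Ext A C L, X.IsTrivialOver Λ ∧ Nonempty ((X.pullback B).Equiv Y) := by
  obtain ⟨τ⟩ := nonempty_sect Y hY
  let d : Derivation Λ A L := τ.der
  refine ⟨dExt (C := C) d, (dSect (C := C) d).isTrivialOver,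
    nonempty_equiv_of_der_eq (pullSect (B := B) (dSect (C := C) d)) τ fun a => ?_⟩
  refine sndS_eq _ _ (pullSect (B := B) (dSect (C := C) d)).hs (b := algebraMap A B a) ?_
  refine Subtype.ext (Prod.ext ?_ ?_)
  · show (TrivSqZeroExt.inl (algebraMap A C a) + TrivSqZeroExt.inr (d a) : TrivSqZeroExt C L) =
      TrivSqZeroExt.inl (algebraMap B C (algebraMap A B a)) + TrivSqZeroExt.inr (τ.der a)
    rw [← IsScalarTower.algebraMap_apply]
  · show algebraMap A B a = algebraMap A B a + 0
    rw [add_zero]

end surj

end Groth.Agent.ExalSurj
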